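import Cfsg.Agent.Lib.Signalizer.CoreSubgroup
import Cfsg.Agent.Lib.RankFourLinear.Apply
import Cfsg.Agent.Lib.Invol.StronglyEmbedded
import Cfsg.Prelude.Def_CaseTheorems
import Cfsg.Prelude.Def_OddOrderLocal

/-!
A simple group of characteristic 2 type in the early sense has a maximal 2-local subgroup
whose 2-core has noncyclic centre.
-/

set_option autoImplicit false
set_option linter.unusedSectionVars false
set_option linter.style.haveILetI false

namespace CfsgLib.EarlyChar2Centre

variable {G : Type*} [Group G] [Finite G]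

/-- The image of `O₂(H)` in the ambient group. -/
def core (H : Subgroup G) : Subgroup G := (Cfsg.pCore 2 ↥H).map H.subtype

theorem core_le (H : Subgroup G) : core H ≤ H := Subgroup.map_subtype_le _

theorem isPGroup_core (H : Subgroup G) : IsPGroup 2 ↥(core H) :=
  (CfsgLib.Fitting.pCore_isPGroup (G := ↥H) 2).map _

theorem le_normalizer_core (H : Subgroup G) : H ≤ Subgroup.normalizer (core H : Set G) := by
  haveI := CfsgLib.Fitting.pCore_normal (G := ↥H) 2
  have := Subgroup.le_normalizer_map H.subtype (H := Cfsg.pCore 2 ↥H)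
  rwa [Subgroup.normalizer_eq_top_iff.mpr inferInstance, ← MonoidHom.range_eq_map,
    Subgroup.range_subtype] at this

theorem le_core {H T : Subgroup G} (hT : IsPGroup 2 T) (hTH : T ≤ H)
    (hn : H ≤ Subgroup.normalizer (T : Set G)) : T ≤ core H := by
  haveI : (T.subgroupOf H).Normal := Subgroup.normal_subgroupOf_of_le_normalizer hn
  have h := Subgroup.map_mono (f := H.subtype) (CfsgLib.Fitting.le_pCore (p := 2)
    (N := T.subgroupOf H) inferInstance (hT.comap_of_injective H.subtype H.subtype_injective))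
  rwa [Subgroup.map_subgroupOf_eq_of_le hTH] at h

/-- A group normalizing a subgroup of order two centralizes it. -/
theorem invol_of_mem {z : G} (hz : orderOf z = 2) {g : G} (h : g * z * g⁻¹ = z) :
    g ∈ Subgroup.centralizer ({z} : Set G) :=
  Subgroup.mem_centralizer_singleton_iff.mpr (mul_inv_eq_iff_eq_mul.mp h)

theorem exists_maximal {N : Subgroup G} (hN : Cfsg.IsTwoLocal N) :
    ∃ M : Subgroup G, N ≤ M ∧ Cfsg.IsMaximalTwoLocal M := by
  obtain ⟨M, hM, hmax⟩ := (Set.toFinite {K : Subgroup G | Cfsg.IsTwoLocal K ∧ N ≤ K}).exists_maximal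
    ⟨N, hN, le_rfl⟩
  exact ⟨M, hM.2, hM.1, fun K hK hMK => le_antisymm (hmax ⟨hK, hM.2.trans hMK⟩ hMK) hMK⟩

/-- The odd cores of all involution centralizers are trivial. -/
theorem theta_eq_bot (S : Sylow 2 G) (A : Subgroup G) (hA : Cfsg.IsSCN (S : Subgroup G) A)
    (hA3 : ¬ Cfsg.PRankLE 2 2 ↥A)
    (hinv : ∀ X : Subgroup G, Odd (Nat.card ↥X) → (S : Subgroup G) ≤ Subgroup.normalizer (X : Set G) → X = ⊥)
    (hcon : ∀ T : Subgroup G, IsPGroup 2 ↥T → T ≠ ⊥ → Cfsg.IsPConstrained 2 ↥(Subgroup.normalizer (T : Set G))) :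
    (∀ t : G, orderOf t = 2 → Cfsg.centralizerPPrimeCore 2 t = ⊥) ∧
      ∃ E : Subgroup G, E ≤ (S : Subgroup G) ∧ (∀ e ∈ E, e ^ 2 = 1) ∧ 8 ≤ Nat.card E := by
  obtain ⟨hAS, hSA, hC⟩ := hA
  have hAn : (A.subgroupOf (S : Subgroup G)).Normal := Subgroup.normal_subgroupOf_of_le_normalizer hSA
  have hAab : ∀ a ∈ A, ∀ b ∈ A, a * b = b * a := fun a ha b hb => by
    have h : b ∈ (S : Subgroup G) ⊓ Subgroup.centralizer (A : Set G) := by rw [hC]; exact hb
    exact Subgroup.mem_centralizer_iff.mp h.2 a ha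
  have hAab' : IsMulCommutative ↥(A.subgroupOf (S : Subgroup G)) :=
    ⟨⟨fun u v => Subtype.ext (Subtype.ext (hAab _ u.2 _ v.2))⟩⟩
  have hA3' : ¬ Cfsg.PRankLE 2 2 ↥(A.subgroupOf (S : Subgroup G)) := by
    intro h
    refine hA3 fun C hCc hC2 => ?_
    let e : ↥(A.subgroupOf (S : Subgroup G)) ≃* ↥A := Subgroup.subgroupOfEquivOfLe hAS
    have h' := h (C.map e.symm.toMonoidHom) ?_ ?_
    · rwa [Subgroup.card_map_of_injective e.symm.injective] at h'
    · exact ⟨⟨fun u v => by
        obtain ⟨a, ha, hae⟩ := u.2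
        obtain ⟨b, hb, hbe⟩ := v.2
        refine Subtype.ext ?_
        show (u : ↥(A.subgroupOf (S : Subgroup G))) * v = v * u
        rw [← hae, ← hbe, ← map_mul, ← map_mul]
        exact congrArg e.symm.toMonoidHom (congrArg Subtype.val (hCc.is_comm.comm ⟨a, ha⟩ ⟨b, hb⟩))⟩⟩
    · rintro _ ⟨a, ha, rfl⟩
      rw [← map_pow, hC2 a ha, map_one]
  obtain ⟨E, hEn, hEc, hE2, hE8⟩ := CfsgLib.Signalizer.CoreSubgroup.exists_elementary_normal S S
    (A.subgroupOf (S : Subgroup G)) hAn hAab' hA3'
  haveI := hEn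
  have hc := CfsgLib.Signalizer.CoreSubgroup.constrainedCentralizers_of_locals hcon
  obtain ⟨W, hWodd, hW⟩ := CfsgLib.Signalizer.CoreSubgroup.exists_core hc S E hEc hE2 hE8
  have hSrank : ¬ Cfsg.PRankLE 2 1 ↥(S : Subgroup G) := fun h => by
    have h' := h E hEc hE2
    omega
  obtain ⟨hWS, hSW⟩ := hW (S : Subgroup G) le_rfl hSrank
  have hW1 : W = ⊥ := hinv W hWodd ((Subgroup.le_normalizer).trans hSW)
  refine ⟨fun t ht => ?_, E.map (S : Subgroup G).subtype, Subgroup.map_subtype_le _, ?_, ?_⟩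
  · have htp : IsPGroup 2 ↥(Subgroup.zpowers t) :=
      IsPGroup.of_card (n := 1) (by rw [Nat.card_zpowers, ht, pow_one])
    obtain ⟨Q, hQ⟩ := htp.exists_le_sylow
    obtain ⟨g, hg⟩ := MulAction.exists_smul_eq G S Q
    have htQ : t ∈ (Q : Subgroup G) := hQ (Subgroup.mem_zpowers t)
    rw [← hg] at htQ
    change t ∈ (S : Subgroup G).map (MulAut.conj g).toMonoidHom at htQ
    obtain ⟨s, hs, rfl⟩ := htQ
    have hs1 : s ≠ 1 := by
      rintro rfl
      simp at ht
    have hθ : Cfsg.centralizerPPrimeCore 2 s = ⊥ := by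
      rw [← le_bot_iff, ← hW1, hWS]
      exact CfsgLib.Signalizer.CoreSubgroup.theta_le_closure hs hs1
    change Cfsg.centralizerPPrimeCore 2 (g * s * g⁻¹) = ⊥
    rw [CfsgLib.Signalizer.centralizerPPrimeCore_conj, hθ, Subgroup.map_bot]
  · rintro _ ⟨e, he, rfl⟩
    rw [← map_pow, hE2 e he, map_one]
  · rwa [Subgroup.card_map_of_injective (Subgroup.subtype_injective _)]

/-- Every 2-local subgroup has characteristic 2. -/
theorem local_centralizer_core_le
    (hcon : ∀ T : Subgroup G, IsPGroup 2 ↥T → T ≠ ⊥ → Cfsg.IsPConstrained 2 ↥(Subgroup.normalizer (T : Set G)))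
    (hθ : ∀ t : G, orderOf t = 2 → Cfsg.centralizerPPrimeCore 2 t = ⊥)
    {H : Subgroup G} (hH : Cfsg.IsTwoLocal H) {x : G} (hxH : x ∈ H)
    (hx : ∀ q ∈ core H, q * x = x * q) : x ∈ core H := by
  obtain ⟨T, hT, hT1, rfl⟩ := hH
  set N := Subgroup.normalizer (T : Set G) with hN
  haveI : Fact (Nat.Prime 2) := ⟨Nat.prime_two⟩
  -- an involution in the centre of T
  haveI : Nontrivial ↥T := (Subgroup.nontrivial_iff_ne_bot T).mpr hT1
  haveI := IsPGroup.center_nontrivial hT
  obtain ⟨u, hu⟩ : ∃ u : ↥(Subgroup.center ↥T), orderOf u = 2 := by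
    refine exists_prime_orderOf_dvd_card' 2 ?_
    obtain ⟨n, hn⟩ := IsPGroup.iff_card.mp (hT.to_subgroup (Subgroup.center ↥T))
    rcases n with _ | n
    · have := Finite.one_lt_card (α := ↥(Subgroup.center ↥T))
      omega
    · rw [hn]; exact dvd_pow_self 2 n.succ_ne_zero
  set t : G := ((u : ↥T) : G) with ht_def
  have ht : orderOf t = 2 := by rw [ht_def, Subgroup.orderOf_coe, Subgroup.orderOf_coe, hu]
  have htT : ∀ y ∈ T, y * t = t * y := fun y hy =>
    congrArg Subtype.val (Subgroup.mem_center_iff.mp u.2 ⟨y, hy⟩)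
  set C := Subgroup.centralizer ({t} : Set G) with hC
  have hTC : T ≤ C := fun y hy => Subgroup.mem_centralizer_singleton_iff.mpr (htT y hy)
  -- the odd core of N
  set D := (Cfsg.pPrimeCore 2 ↥N).map N.subtype with hD
  haveI hDn : (Cfsg.pPrimeCore 2 ↥N).Normal := CfsgLib.Transfer.pPrimeCore_normal 2 ↥N
  have hDcop : (Nat.card D).Coprime 2 := by
    rw [hD, Subgroup.card_map_of_injective N.subtype_injective]
    exact CfsgLib.Transfer.pPrimeCore_coprime 2
  have hND : N ≤ Subgroup.normalizer (D : Set G) := by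
    have := Subgroup.le_normalizer_map N.subtype (H := Cfsg.pPrimeCore 2 ↥N)
    rwa [Subgroup.normalizer_eq_top_iff.mpr hDn, ← MonoidHom.range_eq_map,
      Subgroup.range_subtype] at this
  have hDN : D ≤ N := Subgroup.map_subtype_le _
  -- D centralizes T
  have hDT : ∀ d ∈ D, ∀ y ∈ T, d * y = y * d := by
    intro d hd y hy
    have h1 : d * y * d⁻¹ * y⁻¹ ∈ T :=
      mul_mem ((Subgroup.mem_normalizer_iff.mp (hDN hd) y).mp hy) (inv_mem hy)
    have h2 : d * y * d⁻¹ * y⁻¹ ∈ D := by
      have := (Subgroup.mem_normalizer_iff.mp (hND (Subgroup.le_normalizer hy)) d⁻¹).mp (inv_mem hd)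
      simpa [mul_assoc] using mul_mem hd this
    have h3 : d * y * d⁻¹ * y⁻¹ = 1 := by
      obtain ⟨k, hk⟩ := hT ⟨_, h1⟩
      have ho : orderOf (d * y * d⁻¹ * y⁻¹) ∣ 2 ^ k :=
        orderOf_dvd_of_pow_eq_one (congrArg Subtype.val hk)
      have ho' : orderOf (d * y * d⁻¹ * y⁻¹) ∣ Nat.card D :=
        Subgroup.orderOf_dvd_natCard D h2
      exact orderOf_eq_one_iff.mp
        (Nat.dvd_one.mp ((Nat.Coprime.pow_right k hDcop) ▸ Nat.dvd_gcd ho' ho))
    calc d * y = d * y * d⁻¹ * y⁻¹ * (y * d) := by group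
      _ = y * d := by rw [h3, one_mul]
  have hDC : D ≤ C := fun d hd =>
    Subgroup.mem_centralizer_singleton_iff.mpr (hDT d hd t (u : ↥T).2)
  have hCc : Cfsg.IsPConstrained 2 ↥C :=
    CfsgLib.Signalizer.CoreSubgroup.constrainedCentralizers_of_locals hcon t ht
  have hDle : D.subgroupOf C ≤ Cfsg.pPrimeCore 2 ↥C := by
    refine CfsgLib.PSolvable.le_pPrimeCore_of_le_normalizer hCc (P := T.subgroupOf C)
      (hT.comap_of_injective C.subtype C.subtype_injective) ?_ ?_ ?_
    · rwa [Nat.card_congr (Subgroup.subgroupOfEquivOfLe hDC).toEquiv]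
    · refine fun d hd => Subgroup.mem_normalizer_iff.mpr fun y => ?_
      have := Subgroup.mem_normalizer_iff.mp (hDN (Subgroup.mem_subgroupOf.mp hd)) (y : G)
      simpa [Subgroup.mem_subgroupOf] using this
    · refine fun g hg => Subgroup.mem_normalizer_iff.mpr fun d => ?_
      have hgN : (g : G) ∈ N := by
        refine Subgroup.mem_normalizer_iff.mpr fun y => ⟨fun hy => ?_, fun hy => ?_⟩
        · simpa [Subgroup.mem_subgroupOf] using
            (Subgroup.mem_normalizer_iff.mp hg ⟨y, hTC hy⟩).mp (Subgroup.mem_subgroupOf.mpr hy)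
        · have := (Subgroup.mem_normalizer_iff.mp (inv_mem hg) ⟨_, hTC hy⟩).mp
            (Subgroup.mem_subgroupOf.mpr hy)
          simpa [Subgroup.mem_subgroupOf, mul_assoc] using this
      have := Subgroup.mem_normalizer_iff.mp (hND hgN) (d : G)
      simpa [Subgroup.mem_subgroupOf] using this
  have hD1 : D = ⊥ := by
    have h := Subgroup.map_mono (f := C.subtype) hDle
    rw [Subgroup.map_subgroupOf_eq_of_le hDC] at h
    rw [← le_bot_iff, ← hθ t ht]
    exact h
  have hO : Cfsg.oddCore ↥N = ⊥ := by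
    have h := hD1
    rw [hD, Subgroup.map_eq_bot_iff_of_injective _ N.subtype_injective] at h
    exact h
  have hle := CfsgLib.RankFourLinear.centralizer_pCore_le (hcon T hT hT1) hO
  refine ⟨⟨x, hxH⟩, hle (Subgroup.mem_centralizer_iff.mpr fun q hq => Subtype.ext ?_), rfl⟩
  exact hx q ⟨q, hq, rfl⟩

/-- **A maximal 2-local subgroup with noncyclic centre of its 2-core.** -/
theorem exists_not_isCyclic_center [IsSimpleGroup G] (hG : ¬ IsMulCommutative G) (S : Sylow 2 G) (A : Subgroup G)
    (hA : Cfsg.IsSCN (S : Subgroup G) A) (hA3 : ¬ Cfsg.PRankLE 2 2 ↥A)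
    (hinv : ∀ X : Subgroup G, Odd (Nat.card ↥X) → (S : Subgroup G) ≤ Subgroup.normalizer (X : Set G) → X = ⊥)
    (hcon : ∀ T : Subgroup G, IsPGroup 2 ↥T → T ≠ ⊥ → Cfsg.IsPConstrained 2 ↥(Subgroup.normalizer (T : Set G))) :
    ∃ M : Subgroup G, Cfsg.IsMaximalTwoLocal M ∧ ¬ IsCyclic ↥(Subgroup.center ↥(Cfsg.pCore 2 ↥M)) := by
  classical
  haveI : Fact (Nat.Prime 2) := ⟨Nat.prime_two⟩
  by_contra hall
  push Not at hall
  obtain ⟨hθ, E, hES, hE2, hE8⟩ := theta_eq_bot S A hA hA3 hinv hcon
  have hchar : ∀ {H : Subgroup G}, Cfsg.IsTwoLocal H → ∀ {x : G}, x ∈ H →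
      (∀ q ∈ core H, q * x = x * q) → x ∈ core H :=
    fun hH _ hxH hx => local_centralizer_core_le hcon hθ hH hxH hx
  -- two central involutions of the core coincide
  have huniq : ∀ {M : Subgroup G}, Cfsg.IsMaximalTwoLocal M → ∀ {a b : G}, orderOf a = 2 → orderOf b = 2 →
      a ∈ core M → b ∈ core M → (∀ q ∈ core M, q * a = a * q) → (∀ q ∈ core M, q * b = b * q) → a = b := by
    rintro M hM a b ha hb ⟨a', ha', rfl⟩ ⟨b', hb', rfl⟩ hac hbc
    haveI := hall M hM
    have hmem : ∀ c : ↥M, ∀ hc : c ∈ Cfsg.pCore 2 ↥M,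
        (∀ q ∈ core M, q * (c : G) = (c : G) * q) → (⟨c, hc⟩ : ↥(Cfsg.pCore 2 ↥M)) ∈ Subgroup.center _ :=
      fun c hc hcc => Subgroup.mem_center_iff.mpr fun q =>
        Subtype.ext (Subtype.ext (hcc _ ⟨q, q.2, rfl⟩))
    set a'' : ↥(Subgroup.center ↥(Cfsg.pCore 2 ↥M)) := ⟨⟨a', ha'⟩, hmem a' ha' hac⟩
    set b'' : ↥(Subgroup.center ↥(Cfsg.pCore 2 ↥M)) := ⟨⟨b', hb'⟩, hmem b' hb' hbc⟩
    have ho : ∀ c : ↥(Subgroup.center ↥(Cfsg.pCore 2 ↥M)), orderOf c = orderOf ((c : ↥M) : G) :=
      fun c => by rw [Subgroup.orderOf_coe, Subgroup.orderOf_coe, Subgroup.orderOf_coe]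
    have key : a'' = b'' := by
      by_contra hab
      haveI : Fintype ↥(Subgroup.center ↥(Cfsg.pCore 2 ↥M)) := Fintype.ofFinite _
      have hle := IsCyclic.card_pow_eq_one_le (α := ↥(Subgroup.center ↥(Cfsg.pCore 2 ↥M))) (n := 2) two_pos
      have hsub : ({1, a'', b''} : Finset ↥(Subgroup.center ↥(Cfsg.pCore 2 ↥M))) ⊆
          Finset.univ.filter fun c => c ^ 2 = 1 := by
        intro c hc
        simp only [Finset.mem_insert, Finset.mem_singleton] at hc
        refine Finset.mem_filter.mpr ⟨Finset.mem_univ _, ?_⟩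
        rcases hc with rfl | rfl | rfl
        · exact one_pow 2
        · exact orderOf_dvd_iff_pow_eq_one.mp (by rw [ho]; exact dvd_of_eq ha)
        · exact orderOf_dvd_iff_pow_eq_one.mp (by rw [ho]; exact dvd_of_eq hb)
      have ha1 : (1 : ↥(Subgroup.center ↥(Cfsg.pCore 2 ↥M))) ≠ a'' := fun h => by
        have h2 : orderOf a'' = 2 := by rw [ho]; exact ha
        rw [← h, orderOf_one] at h2
        exact absurd h2 (by norm_num)
      have hb1 : (1 : ↥(Subgroup.center ↥(Cfsg.pCore 2 ↥M))) ≠ b'' := fun h => by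
        have h2 : orderOf b'' = 2 := by rw [ho]; exact hb
        rw [← h, orderOf_one] at h2
        exact absurd h2 (by norm_num)
      have h3 := Finset.card_le_card hsub
      rw [Finset.card_eq_three.mpr ⟨_, _, _, ha1, hb1, hab, rfl⟩] at h3
      omega
    exact congrArg (fun c : ↥(Subgroup.center ↥(Cfsg.pCore 2 ↥M)) => ((c : ↥M) : G)) key
  -- a 2-local containing S, and the central involution
  have hS1 : (S : Subgroup G) ≠ ⊥ := fun h => by
    have := Subgroup.card_le_of_le (hES.trans h.le)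
    rw [Subgroup.card_bot] at this
    omega
  obtain ⟨M, hNM, hM⟩ := exists_maximal ⟨_, S.isPGroup', hS1, rfl⟩
  have hSM : (S : Subgroup G) ≤ M := Subgroup.le_normalizer.trans hNM
  haveI : Nontrivial ↥(S : Subgroup G) := (Subgroup.nontrivial_iff_ne_bot _).mpr hS1
  haveI := IsPGroup.center_nontrivial S.isPGroup'
  obtain ⟨u, hu⟩ : ∃ u : ↥(Subgroup.center ↥(S : Subgroup G)), orderOf u = 2 := by
    refine exists_prime_orderOf_dvd_card' 2 ?_
    obtain ⟨n, hn⟩ := IsPGroup.iff_card.mp (S.isPGroup'.to_subgroup (Subgroup.center ↥(S : Subgroup G)))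
    rcases n with _ | n
    · have := Finite.one_lt_card (α := ↥(Subgroup.center ↥(S : Subgroup G)))
      omega
    · rw [hn]; exact dvd_pow_self 2 n.succ_ne_zero
  set z : G := ((u : ↥(S : Subgroup G)) : G) with hz_def
  have hz : orderOf z = 2 := by rw [hz_def, Subgroup.orderOf_coe, Subgroup.orderOf_coe, hu]
  have hz1 : z ≠ 1 := fun h => by rw [h, orderOf_one] at hz; norm_num at hz
  have hzS : z ∈ (S : Subgroup G) := (u : ↥(S : Subgroup G)).2
  have hzc : ∀ y ∈ (S : Subgroup G), y * z = z * y := fun y hy =>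
    congrArg Subtype.val (Subgroup.mem_center_iff.mp u.2 ⟨y, hy⟩)
  have hzC : Cfsg.IsTwoLocal (Subgroup.centralizer ({z} : Set G)) :=
    ⟨Subgroup.zpowers z, IsPGroup.of_card (n := 1) (by rw [Nat.card_zpowers, hz, pow_one]),
      by rwa [Ne, Subgroup.zpowers_eq_bot],
      CfsgLib.Signalizer.CoreSubgroup.centralizer_eq_normalizer hz⟩
  -- the core of a 2-local lies in each of its maximal 2-subgroups
  have hcoreP : ∀ {H P : Subgroup G}, IsPGroup 2 ↥P → P ≤ H →
      (∀ Q : Subgroup G, IsPGroup 2 ↥Q → P ≤ Q → Q ≤ H → Q = P) → core H ≤ P := by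
    intro H P hP hPH hmax
    have hn : P ≤ Subgroup.normalizer (core H : Set G) := hPH.trans (le_normalizer_core H)
    have := hmax (P ⊔ core H) (IsPGroup.to_sup_of_normal_right' hP (isPGroup_core H) hn) le_sup_left
      (sup_le hPH (core_le H))
    exact le_sup_right.trans this.le
  have hMmax : ∀ Q : Subgroup G, IsPGroup 2 ↥Q → (S : Subgroup G) ≤ Q → Q ≤ M → Q = (S : Subgroup G) :=
    fun Q hQ hSQ _ => (S.3 hQ hSQ)
  have hzcore : z ∈ core M := hchar hM.1 (hSM hzS)
    fun q hq => hzc q (hcoreP S.isPGroup' hSM hMmax hq)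
  have hzcc : ∀ q ∈ core M, q * z = z * q := fun q hq => hzc q (hcoreP S.isPGroup' hSM hMmax hq)
  -- anything normalizing the core fixes its central involution
  have hfix : ∀ {H : Subgroup G}, Cfsg.IsMaximalTwoLocal H → z ∈ core H → (∀ q ∈ core H, q * z = z * q) →
      ∀ g ∈ Subgroup.normalizer (core H : Set G), g ∈ Subgroup.centralizer ({z} : Set G) := by
    intro H hH hzH hzHc g hg
    refine invol_of_mem hz (huniq hH ((CfsgLib.Invol.conj_orderOf_two hz g)) hz
      ((Subgroup.mem_normalizer_iff.mp hg z).mp hzH) hzH (fun q hq => ?_) hzHc)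
    have := hzHc _ ((Subgroup.mem_normalizer_iff.mp (inv_mem hg) q).mp hq)
    simp only [inv_inv] at this
    calc q * (g * z * g⁻¹) = g * (g⁻¹ * q * g * z) * g⁻¹ := by group
      _ = g * (z * (g⁻¹ * q * g)) * g⁻¹ := by rw [this]
      _ = g * z * g⁻¹ * q := by group
  have hMz : M = Subgroup.centralizer ({z} : Set G) :=
    (hM.2 _ hzC fun g hg => hfix hM hzcore hzcc g (le_normalizer_core M hg)).symm
  have hMmem : ∀ {g : G}, g ∈ M → g * z = z * g := by
    intro g hg
    rw [hMz] at hg
    exact Subgroup.mem_centralizer_singleton_iff.mp hg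
  -- the self-normalization of maximal locals
  have hcore1 : ∀ {H : Subgroup G}, Cfsg.IsTwoLocal H → core H ≠ ⊥ := by
    rintro H ⟨T, hT, hT1, rfl⟩ h
    exact hT1 (le_bot_iff.mp ((le_core hT Subgroup.le_normalizer le_rfl).trans h.le))
  have hmaxN : ∀ {H : Subgroup G}, Cfsg.IsMaximalTwoLocal H → Subgroup.normalizer (core H : Set G) = H :=
    fun {H} hH => hH.2 _ ⟨core H, isPGroup_core H, hcore1 hH.1, rfl⟩ (le_normalizer_core H)
  -- no other maximal 2-local meets M in even order
  have hkey : ∀ H : Subgroup G, Cfsg.IsMaximalTwoLocal H →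
      ∀ P : Subgroup G, IsPGroup 2 ↥P → P ≠ ⊥ → P ≤ M → P ≤ H → H = M := by
    suffices hn : ∀ n : ℕ, ∀ H : Subgroup G, Cfsg.IsMaximalTwoLocal H →
        ∀ P : Subgroup G, IsPGroup 2 ↥P → P ≠ ⊥ → P ≤ M → P ≤ H → Nat.card G - Nat.card ↥P = n → H = M from
      fun H hH P hP hP1 hPM hPH => hn _ H hH P hP hP1 hPM hPH rfl
    intro n
    induction n using Nat.strong_induction_on with
    | _ n ih =>
      intro H hH P hP hP1 hPM hPH hPn
      by_contra hne
      -- P is a maximal 2-subgroup of the intersection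
      have hbig : ∀ H' : Subgroup G, Cfsg.IsMaximalTwoLocal H' → ∀ Q : Subgroup G, IsPGroup 2 ↥Q →
          P < Q → Q ≤ M → Q ≤ H' → H' = M := by
        intro H' hH' Q hQ hPQ hQM hQH
        have hcard : Nat.card ↥P < Nat.card ↥Q :=
          lt_of_le_of_ne (Subgroup.card_le_of_le hPQ.le) fun h =>
            hPQ.ne (Subgroup.eq_of_le_of_card_ge hPQ.le h.ge)
        have hQG := Subgroup.card_le_card_group Q
        exact ih _ (by omega) H' hH' Q hQ (fun h => by
          rw [h] at hPQ; exact not_lt_bot hPQ) hQM hQH rfl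
      -- a Sylow 2-subgroup of G in M over P
      obtain ⟨R, hR⟩ := (hP.comap_of_injective M.subtype M.subtype_injective).exists_le_sylow
      set R₁ := (R : Subgroup ↥M).map M.subtype with hR₁
      have hR₁p : IsPGroup 2 ↥R₁ := R.isPGroup'.map _
      have hPR : P ≤ R₁ := by
        intro y hy
        exact ⟨⟨y, hPM hy⟩, hR (show (⟨y, hPM hy⟩ : ↥M) ∈ P.comap M.subtype from hy), rfl⟩
      have hR₁M : R₁ ≤ M := Subgroup.map_subtype_le _
      have hR₁S : ∀ y ∈ (S : Subgroup G), y ∈ M := fun y hy => hSM hy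
      -- P is not a Sylow 2-subgroup
      have hPne : P ≠ R₁ := by
        intro hPR₁
        -- then H contains a conjugate of S inside M
        obtain ⟨S', hS'⟩ : ∃ S' : Sylow 2 ↥M, (S' : Subgroup ↥M).map M.subtype = (S : Subgroup G) := by
          have hs : IsPGroup 2 ↥((S : Subgroup G).subgroupOf M) :=
            S.isPGroup'.comap_of_injective M.subtype M.subtype_injective
          obtain ⟨S', hS'⟩ := hs.exists_le_sylow
          refine ⟨S', (S.3 (S'.isPGroup'.map _) ?_)⟩
          intro y hy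
          exact ⟨⟨y, hSM hy⟩, hS' (Subgroup.mem_subgroupOf.mpr hy), rfl⟩
        obtain ⟨m, hm⟩ := MulAction.exists_smul_eq ↥M S' R
        have hmP : ∀ y ∈ (S : Subgroup G), (m : G) * y * (m : G)⁻¹ ∈ P := by
          intro y hy
          rw [← hS'] at hy
          obtain ⟨y', hy', rfl⟩ := hy
          rw [hPR₁, hR₁, ← hm]
          exact ⟨m * y' * m⁻¹, ⟨y', hy', rfl⟩, rfl⟩
        have hzH : z ∈ core H := by
          have hmz : (m : G) * z * (m : G)⁻¹ = z := by
            have := hMmem m.2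
            rw [this, mul_inv_cancel_right]
          refine hchar hH.1 (hPH (hmz ▸ hmP z hzS)) fun q hq => ?_
          have hqP : q ∈ P := by
            refine hcoreP hP hPH (fun Q hQ hPQ hQH => ?_) hq
            have hcard : Nat.card ↥(S : Subgroup G) ≤ Nat.card ↥P :=
              Nat.card_le_card_of_injective
                (fun y : ↥(S : Subgroup G) => (⟨_, hmP y y.2⟩ : ↥P)) fun a b hab => by
                  simpa using congrArg Subtype.val hab
            refine (Subgroup.eq_of_le_of_card_ge hPQ ?_).symm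
            obtain ⟨Q', hQ'⟩ := hQ.exists_le_sylow
            exact (Subgroup.card_le_of_le hQ').trans ((Nat.card_congr (Sylow.equiv Q' S).toEquiv).le.trans hcard)
          exact hMmem (hPM hqP)
        refine hne (hH.2 M hM.1 fun g hg => ?_).symm
        rw [hMz]
        exact hfix hH hzH (fun q hq => hMmem (hPM
          (hcoreP hP hPH (fun Q hQ hPQ hQH => by
            have hcard : Nat.card ↥(S : Subgroup G) ≤ Nat.card ↥P :=
              Nat.card_le_card_of_injective
                (fun y : ↥(S : Subgroup G) => (⟨_, hmP y y.2⟩ : ↥P)) fun a b hab => by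
                  simpa using congrArg Subtype.val hab
            refine (Subgroup.eq_of_le_of_card_ge hPQ ?_).symm
            obtain ⟨Q', hQ'⟩ := hQ.exists_le_sylow
            exact (Subgroup.card_le_of_le hQ').trans ((Nat.card_congr (Sylow.equiv Q' S).toEquiv).le.trans hcard)) hq))) g
          (le_normalizer_core H hg)
      have hgrow : ∀ {Q : Subgroup G}, IsPGroup 2 ↥Q → P < Q →
          P < Q ⊓ Subgroup.normalizer (P : Set G) := by
        intro Q hQ hPQ
        haveI : Group.IsNilpotent ↥Q := hQ.isNilpotent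
        have hlt : P.subgroupOf Q < ⊤ := lt_top_iff_ne_top.mpr fun h =>
          hPQ.ne (le_antisymm hPQ.le (Subgroup.subgroupOf_eq_top.mp h))
        have h := normalizerCondition_of_isNilpotent (G := ↥Q) _ hlt
        obtain ⟨y, hy, hyP⟩ := SetLike.exists_of_lt h
        refine lt_of_le_of_ne (le_inf hPQ.le Subgroup.le_normalizer) fun heq => hyP ?_
        refine Subgroup.mem_subgroupOf.mpr ?_
        rw [heq]
        refine ⟨y.2, Subgroup.mem_normalizer_iff.mpr fun w => ⟨fun hw => ?_, fun hw => ?_⟩⟩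
        · simpa [Subgroup.mem_subgroupOf] using
            (Subgroup.mem_normalizer_iff.mp hy ⟨w, hPQ.le hw⟩).mp (Subgroup.mem_subgroupOf.mpr hw)
        · have := (Subgroup.mem_normalizer_iff.mp (inv_mem hy) ⟨_, hPQ.le hw⟩).mp
            (Subgroup.mem_subgroupOf.mpr hw)
          simpa [Subgroup.mem_subgroupOf, mul_assoc] using this
      obtain ⟨M', hPM', hM'⟩ := exists_maximal (⟨P, hP, hP1, rfl⟩ :
        Cfsg.IsTwoLocal (Subgroup.normalizer (P : Set G)))
      have hM'M : M' = M := hbig M' hM' (R₁ ⊓ Subgroup.normalizer (P : Set G))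
        (hR₁p.to_le inf_le_left) (hgrow hR₁p (lt_of_le_of_ne hPR hPne))
        (inf_le_left.trans hR₁M) (inf_le_right.trans hPM')
      -- P is a maximal 2-subgroup of H
      have hPHmax : ∀ Q : Subgroup G, IsPGroup 2 ↥Q → P ≤ Q → Q ≤ H → Q = P := by
        intro Q hQ hPQ hQH
        by_contra hQP
        exact hne (hbig H hH (Q ⊓ Subgroup.normalizer (P : Set G)) (hQ.to_le inf_le_left)
          (hgrow hQ (lt_of_le_of_ne hPQ (Ne.symm hQP))) ((inf_le_right.trans hPM').trans hM'M.le)
          (inf_le_left.trans hQH))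
      have hzq : ∀ q ∈ core H, q * z = z * q := fun q hq =>
        hMmem (hPM (hcoreP hP hPH hPHmax hq))
      have hzH : z ∈ H := by
        rw [← hmaxN hH]
        refine Subgroup.centralizer_le_normalizer _ fun q hq => hzq q hq
      refine hne (hH.2 M hM.1 fun g hg => ?_).symm
      rw [hMz]
      exact hfix hH (hchar hH.1 hzH hzq) hzq g (le_normalizer_core H hg)
  -- M is strongly embedded
  have hMtop : M ≠ ⊤ := by
    intro h
    have hzz : z ∈ Subgroup.center G := Subgroup.mem_center_iff.mpr fun g =>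
      hMmem (h ▸ Subgroup.mem_top g : g ∈ M)
    rcases Subgroup.Normal.eq_bot_or_eq_top (inferInstance : (Subgroup.center G).Normal) with hc | hc
    · exact hz1 (Subgroup.mem_bot.mp (hc ▸ hzz))
    · exact hG ⟨⟨fun a b => Subgroup.mem_center_iff.mp (hc ▸ Subgroup.mem_top b) a⟩⟩
  have hse : Cfsg.IsStronglyEmbedded M := by
    refine ⟨hMtop, even_iff_two_dvd.mpr ?_, fun g hg => ?_⟩
    · rw [← hz]
      exact Subgroup.orderOf_dvd_natCard M (hSM hzS)
    · rw [← Nat.not_even_iff_odd, even_iff_two_dvd]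
      intro h2
      obtain ⟨t, ht⟩ := exists_prime_orderOf_dvd_card' 2 h2
      have ht' : orderOf (t : G) = 2 := (Subgroup.orderOf_coe t).trans ht
      have htp : IsPGroup 2 ↥(Subgroup.zpowers (t : G)) :=
        IsPGroup.of_card (n := 1) (by rw [Nat.card_zpowers, ht', pow_one])
      have hconj : M.map (MulAut.conj g).toMonoidHom = Subgroup.centralizer ({g * z * g⁻¹} : Set G) := by
        ext y
        rw [Subgroup.mem_map_equiv, hMz, Subgroup.mem_centralizer_singleton_iff,
          Subgroup.mem_centralizer_singleton_iff]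
        simp only [MulAut.conj_symm_apply]
        constructor <;> intro h
        · calc y * (g * z * g⁻¹) = g * (g⁻¹ * y * g * z) * g⁻¹ := by group
            _ = g * (z * (g⁻¹ * y * g)) * g⁻¹ := by rw [h]
            _ = g * z * g⁻¹ * y := by group
        · calc g⁻¹ * y * g * z = g⁻¹ * (y * (g * z * g⁻¹)) * g := by group
            _ = g⁻¹ * (g * z * g⁻¹ * y) * g := by rw [h]
            _ = z * (g⁻¹ * y * g) := by group
      have hgz : orderOf (g * z * g⁻¹) = 2 := CfsgLib.Invol.conj_orderOf_two hz g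
      obtain ⟨H, hle, hH⟩ := exists_maximal (⟨Subgroup.zpowers (g * z * g⁻¹),
        IsPGroup.of_card (n := 1) (by rw [Nat.card_zpowers, hgz, pow_one]),
        fun h => by rw [Subgroup.zpowers_eq_bot] at h; rw [h, orderOf_one] at hgz; norm_num at hgz,
        CfsgLib.Signalizer.CoreSubgroup.centralizer_eq_normalizer hgz⟩ :
        Cfsg.IsTwoLocal (Subgroup.centralizer ({g * z * g⁻¹} : Set G)))
      have hHM : H = M := hkey H hH (Subgroup.zpowers (t : G)) htp
        (fun h => by rw [Subgroup.zpowers_eq_bot] at h; rw [h, orderOf_one] at ht'; norm_num at ht')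
        (Subgroup.zpowers_le.mpr t.2.1) (Subgroup.zpowers_le.mpr (hle (hconj ▸ t.2.2)))
      have hsub : M.map (MulAut.conj g).toMonoidHom = M :=
        Subgroup.eq_of_le_of_card_ge (hconj.le.trans (hle.trans hHM.le))
          (Subgroup.card_map_of_injective (MulEquiv.injective _)).ge
      refine hg ?_
      have hgn : g ∈ Subgroup.normalizer (core M : Set G) := by
        have hNle : ∀ {y : G}, y ∈ Subgroup.normalizer (M : Set G) →
            y ∈ Subgroup.normalizer (core M : Set G) := by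
          intro y hy
          have hle' : (core M).map (MulAut.conj y).toMonoidHom ≤ core M := by
            refine le_core ((isPGroup_core M).map _) ?_ ?_
            · rintro _ ⟨c, hc, rfl⟩
              exact (Subgroup.mem_normalizer_iff.mp hy c).mp (core_le M hc)
            · intro m hm
              refine Subgroup.mem_normalizer_iff.mpr fun w => ?_
              rw [Subgroup.mem_map_equiv, Subgroup.mem_map_equiv]
              simp only [MulAut.conj_symm_apply]
              have hm' : y⁻¹ * m * y ∈ M := by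
                have := (Subgroup.mem_normalizer_iff.mp (inv_mem hy) m).mp hm
                simpa using this
              have := Subgroup.mem_normalizer_iff.mp (le_normalizer_core M hm') (y⁻¹ * w * y)
              simpa [mul_assoc] using this
          have heq := Subgroup.eq_of_le_of_card_ge hle'
            (Subgroup.card_map_of_injective (MulEquiv.injective _)).ge
          refine Subgroup.mem_normalizer_iff.mpr fun w => ?_
          conv_rhs => rw [← heq, Subgroup.mem_map_equiv]
          simp [mul_assoc]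
        refine hNle (Subgroup.mem_normalizer_iff.mpr fun w => ?_)
        conv_rhs => rw [← hsub, Subgroup.mem_map_equiv]
        simp [mul_assoc]
      rw [hMz]
      exact hfix hM hzcore hzcc g hgn
  -- hence z is the only involution of M
  obtain ⟨w, hw, hwM⟩ := CfsgLib.Invol.strongly_exists_invol_not_mem hse
  obtain ⟨e, he, he'⟩ : ∃ e ∈ (E : Set G), e ∉ ({1, z} : Set G) :=
    Set.exists_mem_notMem_of_ncard_lt_ncard (by
      rw [← Nat.card_coe_set_eq (E : Set G)]
      exact lt_of_le_of_lt ((Set.ncard_insert_le _ _).trans (by simp)) (lt_of_lt_of_le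
        (by norm_num : (2 : ℕ) < 8) hE8))
  simp only [Set.mem_insert_iff, Set.mem_singleton_iff, not_or] at he'
  obtain ⟨d, hd, hde⟩ := CfsgLib.Invol.strongly_inter_transitive hse hw hwM hz (hSM hzS)
    (orderOf_eq_prime (hE2 e he) he'.1) (hSM (hES he))
  have hdz := hMmem hd.1
  rw [hdz, mul_inv_cancel_right] at hde
  exact he'.2 hde.symm

end CfsgLib.EarlyChar2Centre
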